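import Groth.Agent.CiFields.Basic

/-!
# Algebraically closed fields are `C_0` for systems
-/

universe u

open MvPolynomial

namespace Groth.Agent.CiFields

/-- The ideal of the variables `X j`, `j < i`. -/
noncomputable def coordIdeal (k : Type u) [Field k] (n i : ℕ) : Ideal (MvPolynomial (Fin n) k) :=
  Ideal.span (X '' {j : Fin n | (j : ℕ) < i})

theorem coordIdeal_isPrime (k : Type u) [Field k] (n i : ℕ) : (coordIdeal k n i).IsPrime := by
  classical
  let φ : MvPolynomial (Fin n) k →ₐ[k] MvPolynomial (Fin n) k :=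
    aeval fun j => if (j : ℕ) < i then 0 else X j
  have key : ∀ p, p - φ p ∈ coordIdeal k n i := by
    intro p
    induction p using MvPolynomial.induction_on with
    | C a => simp [φ]
    | add p q hp hq => simpa [add_sub_add_comm, map_add] using add_mem hp hq
    | mul_X p j hp =>
      by_cases h : (j : ℕ) < i
      · have hX : (X j : MvPolynomial (Fin n) k) ∈ coordIdeal k n i :=
          Ideal.subset_span ⟨j, h, rfl⟩
        simpa [φ, h] using Ideal.mul_mem_left _ p hX
      · simpa [φ, h, ← sub_mul] using Ideal.mul_mem_right _ _ hp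
  have hker : coordIdeal k n i = RingHom.ker φ := by
    refine le_antisymm (Ideal.span_le.2 ?_) ?_
    · rintro _ ⟨j, hj, rfl⟩
      simp [φ, show (j : ℕ) < i from hj]
    · intro p hp
      have := key p
      rwa [(RingHom.mem_ker).1 hp, sub_zero] at this
  rw [hker]
  exact RingHom.ker_isPrime _

theorem coordIdeal_lt (k : Type u) [Field k] (n i : ℕ) (hi : i < n) :
    coordIdeal k n i < coordIdeal k n (i + 1) := by
  classical
  refine lt_of_le_of_ne (Ideal.span_mono (Set.image_mono fun j (hj : (j : ℕ) < i) =>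
    show (j : ℕ) < i + 1 by omega)) fun h => ?_
  have hX : (X (⟨i, hi⟩ : Fin n) : MvPolynomial (Fin n) k) ∈ coordIdeal k n i :=
    h ▸ Ideal.subset_span ⟨⟨i, hi⟩, Nat.lt_succ_self i, rfl⟩
  have : coordIdeal k n i ≤ RingHom.ker
      (eval (fun j : Fin n => if (j : ℕ) < i then (0 : k) else 1)) := by
    refine Ideal.span_le.2 ?_
    rintro _ ⟨j, hj, rfl⟩
    simp [show (j : ℕ) < i from hj]
  have := this hX
  simp at this

theorem le_height_coordIdeal (k : Type u) [Field k] (n : ℕ) :
    ∀ i ≤ n, (i : ℕ∞) ≤ (coordIdeal k n i).height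
  | 0, _ => zero_le
  | i + 1, h => by
    have := coordIdeal_isPrime k n i
    have := coordIdeal_isPrime k n (i + 1)
    calc ((i + 1 : ℕ) : ℕ∞) = (i : ℕ∞) + 1 := by simp
      _ ≤ (coordIdeal k n i).height + 1 :=
        add_le_add (le_height_coordIdeal k n i (by omega)) le_rfl
      _ ≤ _ := Ideal.height_add_one_le_of_lt_of_isPrime (coordIdeal_lt k n i h)

theorem isCi_zero (k : Type u) [Field k] [IsAlgClosed k] : Curves.IsCi k 0 := by
  classical
  intro r n f d hf hd hsum
  have hr : r < n := by simpa using hsum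
  by_contra hcon
  push Not at hcon
  set I : Ideal (MvPolynomial (Fin n) k) := Ideal.span (Set.range f) with hI
  have hzero : zeroLocus k I ⊆ {0} := by
    intro a ha
    by_contra h0
    obtain ⟨ρ, hρ⟩ := hcon a h0
    exact hρ (by simpa [aeval_eq_eval] using ha (f ρ) (Ideal.subset_span ⟨ρ, rfl⟩))
  have hm : coordIdeal k n n ≤ I.radical := by
    refine Ideal.span_le.2 ?_
    rintro _ ⟨j, -, rfl⟩
    rw [SetLike.mem_coe, ← vanishingIdeal_zeroLocus_eq_radical (K := k)]
    intro a ha
    simp [show a = 0 from hzero ha]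
  have := coordIdeal_isPrime k n n
  have hIm : I ≤ coordIdeal k n n := by
    refine Ideal.span_le.2 ?_
    rintro _ ⟨ρ, rfl⟩
    have h0 := eval_zero_of_homogeneous (hf ρ) (hd ρ)
    rw [SetLike.mem_coe]
    have hall : ∀ p : MvPolynomial (Fin n) k, p - C (eval 0 p) ∈ coordIdeal k n n := by
      intro p
      induction p using MvPolynomial.induction_on with
      | C a => simp
      | add p q hp hq => simpa [add_sub_add_comm, map_add] using add_mem hp hq
      | mul_X p j hp =>
        have hX : (X j : MvPolynomial (Fin n) k) ∈ coordIdeal k n n :=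
          Ideal.subset_span ⟨j, j.isLt, rfl⟩
        simpa using Ideal.mul_mem_left _ p hX
    have h1 := hall (f ρ)
    rwa [h0, map_zero, sub_zero] at h1
  have hmin : coordIdeal k n n ∈ I.minimalPrimes := by
    refine ⟨⟨this, hIm⟩, fun q hq _ => hm.trans ?_⟩
    exact (Ideal.radical_mono hq.2).trans (hq.1.radical).le
  have h1 : (coordIdeal k n n).height ≤ ((Set.range f).ncard : ℕ∞) :=
    Ideal.height_le_card_of_mem_minimalPrimes_span (Set.finite_range f) hmin
  have h2 : ((Set.range f).ncard : ℕ∞) ≤ (r : ℕ∞) := by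
    rw [← Set.image_univ]
    exact_mod_cast (Set.ncard_image_le (f := f) Set.finite_univ).trans (by simp)
  have := (le_height_coordIdeal k n n le_rfl).trans (h1.trans h2)
  have : n ≤ r := by exact_mod_cast this
  omega

end Groth.Agent.CiFields
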