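import Groth.Agent.CiFields.Transfer

/-!
# `C_i` passes to algebraic extensions
-/

universe u v

open MvPolynomial

namespace Groth.Agent.CiFields

theorem isCi_of_finite {K : Type u} [Field K] {L : Type v} [Field L] [Algebra K L]
    [FiniteDimensional K L] {i : ℕ} (hK : Curves.IsCi K i) : Curves.IsCi L i := by
  classical
  intro r n f d hf hd hsum
  let b := Module.finBasis K L
  set e := Module.finrank K L
  have he : 0 < e := Module.finrank_pos
  obtain ⟨a, ha, hz⟩ := isCi_exists hK
    (fun p : Fin r × Fin e => mapCoeff (b.coord p.2) (expand' b (f p.1)))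
    (fun p => d p.1) (fun p => mapCoeff_isHomogeneous _ (expand'_isHomogeneous _ (hf p.1)))
    (fun p => hd p.1) (by
      simp only [Fintype.sum_prod_type, Finset.sum_const, Finset.card_univ, Fintype.card_fin,
        smul_eq_mul, ← Finset.mul_sum, Fintype.card_prod]
      rw [mul_comm n]
      exact Nat.mul_lt_mul_of_pos_left hsum he)
  refine ⟨fun j => ∑ l, a (j, l) • b l, fun h => ha (funext fun ⟨j, l⟩ => ?_), fun ρ => ?_⟩
  · have := congrArg (fun x => b.repr x l) (congrFun h j)
    rw [show (∑ l, a (j, l) • b l) = b.equivFun.symm (fun l => a (j, l)) from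
      (b.equivFun_symm_apply _).symm] at this
    simpa [← Module.Basis.equivFun_apply, -Module.Basis.equivFun_symm_apply] using this
  · refine b.ext_elem fun l => ?_
    have := hz (ρ, l)
    rw [eval_mapCoeff, eval_expand'] at this
    simpa [Algebra.smul_def] using this

theorem isCi_of_isAlgebraic {K : Type u} [Field K] {L : Type v} [Field L] [Algebra K L]
    [Algebra.IsAlgebraic K L] {i : ℕ} (hK : Curves.IsCi K i) : Curves.IsCi L i := by
  classical
  intro r n f d hf hd hsum
  let T : Set L := ⋃ ρ, ((f ρ).coeffs : Set L)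
  have hT : T.Finite := Set.finite_iUnion fun ρ => (f ρ).coeffs.finite_toSet
  let E : IntermediateField K L := IntermediateField.adjoin K T
  have : Finite T := hT
  have : FiniteDimensional K E :=
    IntermediateField.finiteDimensional_adjoin fun x _ => Algebra.IsIntegral.isIntegral x
  have hg : ∀ ρ, ∃ g : MvPolynomial (Fin n) E, MvPolynomial.map E.val.toRingHom g = f ρ := by
    intro ρ
    refine mem_range_map_iff_coeffs_subset.2 fun x hx => ?_
    exact ⟨⟨x, IntermediateField.subset_adjoin K T (Set.mem_iUnion.2 ⟨ρ, hx⟩)⟩, rfl⟩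
  choose g hg using hg
  obtain ⟨a, ha, hz⟩ := isCi_of_finite (L := E) hK r n g d
    (fun ρ => IsHomogeneous.of_map (f := E.val.toRingHom) Subtype.val_injective
      (by rw [hg]; exact hf ρ)) hd hsum
  refine ⟨fun j => (a j : L), fun h => ha (funext fun j => Subtype.ext (congrFun h j)), fun ρ => ?_⟩
  rw [← hg ρ, eval_map]
  have := congrArg E.val.toRingHom (hz ρ)
  rw [map_zero] at this
  rw [← this]
  exact (eval₂_comp _ _ _).symm

theorem isCi_of_ringEquiv {K : Type u} [Field K] {L : Type v} [Field L] (e : K ≃+* L) {i : ℕ}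
    (hK : Curves.IsCi K i) : Curves.IsCi L i := by
  letI : Algebra K L := e.toRingHom.toAlgebra
  have : Algebra.IsAlgebraic K L := ⟨fun x => by
    obtain ⟨y, rfl⟩ := e.surjective x
    exact isAlgebraic_algebraMap (R := K) (A := L) y⟩
  exact isCi_of_isAlgebraic hK

theorem isCr_one_of_finite {K : Type u} [Field K] {L : Type v} [Field L] [Algebra K L]
    [FiniteDimensional K L] (hK : Curves.IsCr K 1) : Curves.IsCr L 1 := by
  classical
  intro n d f hf hd hn
  let b := Module.finBasis K L
  set e := Module.finrank K L
  have he : 0 < e := Module.finrank_pos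
  let M : Matrix (Fin e) (Fin e) (MvPolynomial (Fin n × Fin e) K) :=
    Matrix.of fun j l => mapCoeff (b.coord j) (C (b l) * expand' b f)
  obtain ⟨a, ha, hz⟩ := isCr_exists hK M.det (Fintype.card (Fin e) * d)
    (det_isHomogeneous M d fun j l => mapCoeff_isHomogeneous _
      ((expand'_isHomogeneous _ hf).C_mul _))
    (by simpa using Nat.mul_pos he hd)
    (by
      simp only [pow_one, Fintype.card_fin, Fintype.card_prod] at hn ⊢
      rw [mul_comm n]
      exact Nat.mul_lt_mul_of_pos_left hn he)
  refine ⟨fun j => ∑ l, a (j, l) • b l, fun h => ha (funext fun ⟨j, l⟩ => ?_), ?_⟩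
  · have := congrArg (fun x => b.repr x l) (congrFun h j)
    rw [show (∑ l, a (j, l) • b l) = b.equivFun.symm (fun l => a (j, l)) from
      (b.equivFun_symm_apply _).symm] at this
    simpa [← Module.Basis.equivFun_apply, -Module.Basis.equivFun_symm_apply] using this
  · set x := eval (fun j => ∑ l, a (j, l) • b l) f with hx
    have hM : (eval a).mapMatrix M = Algebra.leftMulMatrix b x := by
      ext j l
      rw [RingHom.mapMatrix_apply, Matrix.map_apply, Algebra.leftMulMatrix_eq_repr_mul]
      simp [M, eval_mapCoeff, eval_expand', x, Algebra.smul_def, mul_comm]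
    have hd0 : (Algebra.leftMulMatrix b x).det = 0 := by
      rw [← hM, ← RingHom.map_det]; exact hz
    exact (Algebra.norm_eq_zero_iff_of_basis b).1 (by rw [Algebra.norm_eq_matrix_det b]; exact hd0)

end Groth.Agent.CiFields
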