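import Groth.Prelude.Def_Curves
import Mathlib

/-!
# Basic lemmas about the properties `Curves.IsCi` and `Curves.IsCr`
-/

universe u v

open MvPolynomial

namespace Groth.Agent.CiFields

/-- A homogeneous polynomial of positive degree vanishes at the origin. -/
theorem eval_zero_of_homogeneous {K σ : Type*} [CommRing K] {f : MvPolynomial σ K} {d : ℕ}
    (hf : f.IsHomogeneous d) (hd : 0 < d) : eval (0 : σ → K) f = 0 := by
  rw [eval_zero, constantCoeff_eq]
  exact hf.coeff_eq_zero (by simp; omega)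

/-- Scaling: `f (c • a) = c ^ d * f a`. -/
theorem eval_smul_of_homogeneous {K σ : Type*} [CommRing K] {f : MvPolynomial σ K} {d : ℕ}
    (hf : f.IsHomogeneous d) (c : K) (a : σ → K) :
    eval (fun i => c * a i) f = c ^ d * eval a f := by
  classical
  rw [eval_eq, eval_eq, Finset.mul_sum]
  refine Finset.sum_congr rfl fun s hs => ?_
  have : ∑ i ∈ s.support, s i = d := (hf.degree_eq_sum_deg_support hs).symm
  simp only [mul_pow, Finset.prod_mul_distrib, Finset.prod_pow_eq_pow_sum, this]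
  ring

/-- `IsCi` with arbitrary finite index types. -/
theorem isCi_exists {K : Type*} [Field K] {i : ℕ} (hK : Curves.IsCi K i) {ι σ : Type*} [Fintype ι]
    [Fintype σ] (f : ι → MvPolynomial σ K) (d : ι → ℕ) (hf : ∀ ρ, (f ρ).IsHomogeneous (d ρ))
    (hd : ∀ ρ, 0 < d ρ) (hsum : (∑ ρ, d ρ ^ i) < Fintype.card σ) :
    ∃ a : σ → K, a ≠ 0 ∧ ∀ ρ, eval a (f ρ) = 0 := by
  classical
  set eι := Fintype.equivFin ι
  set eσ := Fintype.equivFin σ
  have hs : (∑ j, d (eι.symm j) ^ i) = ∑ ρ, d ρ ^ i :=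
    Equiv.sum_comp eι.symm (fun ρ => d ρ ^ i)
  obtain ⟨a, ha, hz⟩ := hK (Fintype.card ι) (Fintype.card σ)
    (fun j => rename eσ (f (eι.symm j))) (fun j => d (eι.symm j))
    (fun j => (hf _).rename_isHomogeneous) (fun j => hd _) (by omega)
  refine ⟨a ∘ eσ, fun h => ha (funext fun j => by simpa using congrFun h (eσ.symm j)), fun ρ => ?_⟩
  simpa [eval_rename] using hz (eι ρ)

/-- `IsCr` with an arbitrary finite index type. -/
theorem isCr_exists {K : Type*} [Field K] {r : ℕ} (hK : Curves.IsCr K r) {σ : Type*}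
    [Fintype σ] (f : MvPolynomial σ K) (d : ℕ) (hf : f.IsHomogeneous d) (hd : 0 < d)
    (hsum : d ^ r < Fintype.card σ) : ∃ a : σ → K, a ≠ 0 ∧ eval a f = 0 := by
  classical
  set eσ := Fintype.equivFin σ
  obtain ⟨a, ha, hz⟩ := hK (Fintype.card σ) d (rename eσ f) hf.rename_isHomogeneous hd hsum
  refine ⟨a ∘ eσ, fun h => ha (funext fun j => by simpa using congrFun h (eσ.symm j)), ?_⟩
  simpa [eval_rename] using hz

theorem isCr_of_isCi {K : Type*} [Field K] {i : ℕ} (hK : Curves.IsCi K i) : Curves.IsCr K i := by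
  intro n d f hf hd hn
  obtain ⟨a, ha, hz⟩ := hK 1 n (fun _ => f) (fun _ => d) (fun _ => hf) (fun _ => hd) (by simpa using hn)
  exact ⟨a, ha, hz 0⟩

end Groth.Agent.CiFields
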