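import Groth.Agent.CiFields.Transfer

/-!
# Over a `C_1` field there is no nontrivial central division algebra

If `D` is a division algebra of dimension `n ≥ 2` with centre `K`, the generic characteristic
polynomial of left multiplication is reducible (otherwise `D` would be commutative); a proper monic
factor gives a form of degree `m < n` in `n` variables without nontrivial zero.
-/

universe u v

open MvPolynomial

namespace Groth.Agent.CiFields

/-- A divisor of a nonzero homogeneous polynomial is homogeneous. -/
theorem isHomogeneous_of_dvd {R σ : Type*} [CommRing R] [IsDomain R] {G g : MvPolynomial σ R}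
    {n : ℕ} (hG : G.IsHomogeneous n) (hG0 : G ≠ 0) (h : g ∣ G) : ∃ m, g.IsHomogeneous m := by
  classical
  obtain ⟨e, rfl⟩ := h
  let φ : MvPolynomial σ R →+* Polynomial (MvPolynomial σ R) :=
    eval₂Hom (Polynomial.C.comp C) (fun i => Polynomial.C (X i) * Polynomial.X)
  have hφ : ∀ p : MvPolynomial σ R, ∀ m, (φ p).coeff m = homogeneousComponent m p := by
    intro p
    induction p using MvPolynomial.induction_on' with
    | monomial s r =>
      intro m
      have : φ (monomial s r) = Polynomial.C (monomial s r) * Polynomial.X ^ (Finsupp.degree s) := by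
        rw [Finsupp.degree_apply, MvPolynomial.monomial_eq]
        simp [φ, mul_pow, Finset.prod_mul_distrib, Finset.prod_pow_eq_pow_sum, Finsupp.prod,
          mul_assoc]
        left
        rw [← prod_X_pow_eq_monomial, map_prod]
        simp only [map_pow]
      rw [this, Polynomial.coeff_C_mul, Polynomial.coeff_X_pow]
      by_cases hm : m = Finsupp.degree s
      · subst hm
        rw [if_pos rfl, mul_one, homogeneousComponent_of_mem (m := Finsupp.degree s) ?_, if_pos rfl]
        exact isHomogeneous_monomial _ rfl
      · rw [if_neg hm, mul_zero, homogeneousComponent_of_mem (n := Finsupp.degree s) ?_,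
          if_neg (by tauto)]
        exact isHomogeneous_monomial _ rfl
    | add p q hp hq => intro m; simp [hp, hq]
  have hinj : ∀ p, φ p = 0 → p = 0 := by
    intro p hp
    rw [← sum_homogeneousComponent p]
    refine Finset.sum_eq_zero fun m _ => ?_
    rw [← hφ, hp, Polynomial.coeff_zero]
  obtain ⟨hg0, he0⟩ : g ≠ 0 ∧ e ≠ 0 := ⟨left_ne_zero_of_mul hG0, right_ne_zero_of_mul hG0⟩
  have hmono : φ g * φ e = Polynomial.monomial n (g * e) := by
    rw [← map_mul]
    refine Polynomial.ext fun m => ?_
    rw [hφ, homogeneousComponent_of_mem hG, Polynomial.coeff_monomial]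
    rcases eq_or_ne n m with rfl | hne
    · simp
    · rw [if_neg hne.symm, if_neg hne]
  have hg' : φ g ≠ 0 := fun h => hg0 (hinj _ h)
  have he' : φ e ≠ 0 := fun h => he0 (hinj _ h)
  have h1 := Polynomial.natTrailingDegree_mul hg' he'
  have h2 := Polynomial.natDegree_mul hg' he'
  rw [hmono, Polynomial.natTrailingDegree_monomial hG0] at h1
  rw [hmono, Polynomial.natDegree_monomial_eq _ hG0] at h2
  have h3 := Polynomial.natTrailingDegree_le_natDegree (φ g)
  have h4 := Polynomial.natTrailingDegree_le_natDegree (φ e)
  refine ⟨(φ g).natDegree, ?_⟩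
  suffices h : (∑ i ∈ Finset.range (g.totalDegree + 1),
      homogeneousComponent i g).IsHomogeneous (φ g).natDegree by
    rwa [sum_homogeneousComponent] at h
  refine IsHomogeneous.sum _ _ _ fun m _ => ?_
  rcases eq_or_ne m (φ g).natDegree with rfl | hne
  · exact homogeneousComponent_isHomogeneous _ _
  · rw [← hφ]
    rcases lt_or_gt_of_ne hne with hlt | hgt
    · rw [Polynomial.coeff_eq_zero_of_lt_natTrailingDegree (by omega)]
      exact isHomogeneous_zero _ _ _
    · rw [Polynomial.coeff_eq_zero_of_natDegree_lt hgt]
      exact isHomogeneous_zero _ _ _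

/-- A matrix over a field with irreducible characteristic polynomial has commutative centralizer. -/
theorem commute_of_commute_of_irreducible_charpoly {L : Type*} [Field L] {ι : Type*} [Fintype ι]
    [DecidableEq ι] (M N N' : Matrix ι ι L) (hirr : Irreducible M.charpoly)
    (hN : Commute M N) (hN' : Commute M N') : Commute N N' := by
  classical
  have hne : Nonempty ι := by
    by_contra h
    have : IsEmpty ι := not_nonempty_iff.1 h
    exact hirr.not_isUnit (by simp [Matrix.charpoly, Matrix.det_isEmpty])
  obtain ⟨i⟩ := hne
  set v : ι → L := Pi.single i 1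
  have hv : v ≠ 0 := by simp [v]
  let n := Fintype.card ι
  let Φ : Polynomial.degreeLT L n →ₗ[L] (ι → L) :=
    { toFun := fun p => (Polynomial.aeval M (p : Polynomial L)).mulVec v
      map_add' := fun p q => by simp [Matrix.add_mulVec]
      map_smul' := fun c p => by simp [Matrix.smul_mulVec] }
  have hinj : Function.Injective Φ := by
    rw [← LinearMap.ker_eq_bot, LinearMap.ker_eq_bot']
    intro p hp
    by_contra hp0
    have hp0' : (p : Polynomial L) ≠ 0 := fun h => hp0 (Subtype.ext h)
    have hdeg : (p : Polynomial L).natDegree < n :=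
      (Polynomial.natDegree_lt_iff_degree_lt hp0').2 (Polynomial.mem_degreeLT.1 p.2)
    have hcop : IsCoprime (p : Polynomial L) M.charpoly := by
      refine (hirr.coprime_iff_not_dvd.2 fun h => ?_).symm
      have := Polynomial.natDegree_le_of_dvd h hp0'
      rw [Matrix.charpoly_natDegree_eq_dim] at this
      omega
    obtain ⟨a, b, hab⟩ := hcop
    have := congrArg (fun q => (Polynomial.aeval M q).mulVec v) hab
    simp only [map_add, map_mul, map_one, Matrix.aeval_self_charpoly, mul_zero, add_zero,
      Matrix.one_mulVec] at this
    rw [← Matrix.mulVec_mulVec] at this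
    have hp' : (Polynomial.aeval M (p : Polynomial L)).mulVec v = 0 := hp
    rw [hp', Matrix.mulVec_zero] at this
    exact hv this.symm
  have hsurj : Function.Surjective Φ := by
    have he : Module.finrank L (Polynomial.degreeLT L n) = Module.finrank L (ι → L) := by
      rw [(Polynomial.degreeLTEquiv L n).finrank_eq]; simp [n]
    have : FiniteDimensional L (Polynomial.degreeLT L n) :=
      Module.Finite.equiv (Polynomial.degreeLTEquiv L n).symm
    exact (LinearMap.injective_iff_surjective_of_finrank_eq_finrank he).1 hinj
  have key : ∀ N : Matrix ι ι L, Commute M N → ∃ p : Polynomial L, N = Polynomial.aeval M p := by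
    intro N hN
    obtain ⟨p, hp⟩ := hsurj (N.mulVec v)
    refine ⟨p, Matrix.ext_iff_mulVec.2 fun w => ?_⟩
    obtain ⟨q, rfl⟩ := hsurj w
    have hc : Commute (Polynomial.aeval M (q : Polynomial L)) N :=
      (Algebra.commute_of_mem_adjoin_singleton_of_commute
        (Polynomial.aeval_mem_adjoin_singleton (R := L) (p := (q : Polynomial L)) M) hN.symm).symm
    change N.mulVec ((Polynomial.aeval M (q : Polynomial L)).mulVec v) =
      (Polynomial.aeval M (p : Polynomial L)).mulVec ((Polynomial.aeval M (q : Polynomial L)).mulVec v)
    rw [Matrix.mulVec_mulVec, ← hc.eq, ← Matrix.mulVec_mulVec, ← show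
      (Polynomial.aeval M (p : Polynomial L)).mulVec v = N.mulVec v from hp,
      Matrix.mulVec_mulVec, Matrix.mulVec_mulVec, ← map_mul, ← map_mul, mul_comm]
  obtain ⟨p, rfl⟩ := key N hN
  obtain ⟨p', rfl⟩ := key N' hN'
  exact (Commute.all p p').map (Polynomial.aeval M)

section

variable {K : Type u} [Field K] {D : Type v} [DivisionRing D] [Algebra K D] {n : ℕ}
variable (b : Module.Basis (Fin n) K D)

/-- The generic left multiplication matrix. -/
noncomputable def genMat : Matrix (Fin n) (Fin n) (MvPolynomial (Fin n) K) :=
  Matrix.of fun i j => ∑ l, C (b.repr (b l * b j) i) * X l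

theorem genMat_eval (v : Fin n → K) :
    (eval v).mapMatrix (genMat b) = LinearMap.toMatrix b b (LinearMap.mulLeft K (∑ l, v l • b l)) := by
  ext i j
  rw [RingHom.mapMatrix_apply, Matrix.map_apply, LinearMap.toMatrix_apply, LinearMap.mulLeft_apply,
    Finset.sum_mul, map_sum, Finsupp.finsetSum_apply]
  simp [genMat, mul_comm]

theorem genMat_det_eval_ne_zero {v : Fin n → K} (hv : v ≠ 0) : eval v (genMat b).det ≠ 0 := by
  rw [RingHom.map_det, genMat_eval, LinearMap.det_toMatrix]
  have : FiniteDimensional K D := Module.Finite.of_basis b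
  have hx : (∑ l, v l • b l) ≠ 0 := by
    intro h
    exact hv (funext fun l => (Fintype.linearIndependent_iff.1 b.linearIndependent) v h l)
  intro h
  have := LinearMap.bot_lt_ker_of_det_eq_zero h
  rw [LinearMap.ker_eq_bot.2 (mul_right_injective₀ hx)] at this
  exact lt_irrefl _ this

theorem genMat_commute (y : D) :
    Commute (genMat b) ((C : K →+* MvPolynomial (Fin n) K).mapMatrix
      (LinearMap.toMatrix b b (LinearMap.mulRight K y))) := by
  classical
  have hsum : genMat b = ∑ l, (X l : MvPolynomial (Fin n) K) •
      (C : K →+* MvPolynomial (Fin n) K).mapMatrix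
        (LinearMap.toMatrix b b (LinearMap.mulLeft K (b l))) := by
    ext i j
    simp [genMat, Matrix.sum_apply, Algebra.leftMulMatrix_eq_repr_mul, mul_comm]
  rw [hsum]
  refine Commute.sum_left _ _ _ fun l _ => ((Commute.map ?_ _).smul_left _)
  rw [commute_iff_eq, ← LinearMap.toMatrix_mul, ← LinearMap.toMatrix_mul]
  congr 1
  ext z
  simp [mul_assoc]

end

theorem finrank_eq_one_of_isCr_one {K : Type u} [Field K] (hK : Curves.IsCr K 1)
    (D : Type v) [DivisionRing D] [Algebra K D] [Algebra.IsCentral K D] [FiniteDimensional K D] :
    Module.finrank K D = 1 := by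
  classical
  set n := Module.finrank K D
  by_contra hn1
  have hn : 2 ≤ n := by
    have : 0 < n := Module.finrank_pos
    omega
  let b := Module.finBasis K D
  set S := MvPolynomial (Fin n) K
  let L := FractionRing S
  set M := genMat b
  set P := M.charpoly
  have hPm : P.Monic := Matrix.charpoly_monic M
  have hPdeg : P.natDegree = n := by rw [Matrix.charpoly_natDegree_eq_dim, Fintype.card_fin]
  have hPmap : ((algebraMap S L).mapMatrix M).charpoly = P.map (algebraMap S L) :=
    Matrix.charpoly_map M (algebraMap S L)
  -- the generic characteristic polynomial is reducible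
  have hred : ¬ Irreducible (P.map (algebraMap S L)) := by
    intro hirr
    rw [← hPmap] at hirr
    have hinj : Function.Injective
        (((algebraMap S L).comp (C : K →+* S)).mapMatrix (m := Fin n)) :=
      Matrix.map_injective ((algebraMap S L).comp (C : K →+* S)).injective
    have hc : ∀ y z : D, y * z = z * y := by
      intro y z
      have h1 := (genMat_commute b y).map (algebraMap S L).mapMatrix
      have h2 := (genMat_commute b z).map (algebraMap S L).mapMatrix
      have h3 := commute_of_commute_of_irreducible_charpoly _ _ _ hirr h1 h2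
      have h4 : Commute (LinearMap.toMatrix b b (LinearMap.mulRight K y))
          (LinearMap.toMatrix b b (LinearMap.mulRight K z)) := by
        refine hinj ?_
        simp only [map_mul]
        exact h3
      rw [commute_iff_eq, ← LinearMap.toMatrix_mul, ← LinearMap.toMatrix_mul] at h4
      have := LinearMap.congr_fun ((LinearMap.toMatrix b b).injective h4) 1
      simpa using this.symm
    have htop : (⊤ : Subalgebra K D) ≤ ⊥ := by
      intro x _
      exact Algebra.IsCentral.out (Subalgebra.mem_center_iff.2 fun y => hc y x)
    exact hn1 (Subalgebra.bot_eq_top_iff_finrank_eq_one.1 (le_antisymm bot_le htop))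
  -- a monic factor over `S`
  obtain ⟨q, hqdvd, hqm, hq1, hq2⟩ :
      ∃ q : Polynomial S, q ∣ P ∧ q.Monic ∧ 0 < q.natDegree ∧ q.natDegree < n := by
    have hPL : (P.map (algebraMap S L)).Monic := hPm.map _
    have hdegL : (P.map (algebraMap S L)).natDegree = n := by rw [hPm.natDegree_map, hPdeg]
    rw [hPL.irreducible_iff_natDegree] at hred
    push Not at hred
    obtain ⟨f, g, hf, hg, hfg, hf0, hg0⟩ :=
      hred (fun h => by rw [h, Polynomial.natDegree_one] at hdegL; omega)
    obtain ⟨q, hq⟩ := IsIntegrallyClosed.eq_map_mul_C_of_dvd L hPm (g := f) ⟨g, hfg.symm⟩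
    rw [hf.leadingCoeff, Polynomial.C_1, mul_one] at hq
    have hinjSL : Function.Injective (algebraMap S L) := IsFractionRing.injective S L
    have hqm : q.Monic := Polynomial.monic_of_injective hinjSL (hq ▸ hf)
    have hqdeg : q.natDegree = f.natDegree := by rw [← hq, hqm.natDegree_map]
    refine ⟨q, (Polynomial.map_dvd_map _ hinjSL hqm).1 (hq ▸ ⟨g, hfg.symm⟩), hqm, ?_, ?_⟩
    · omega
    · have := congrArg Polynomial.natDegree hfg
      rw [hf.natDegree_mul hg, hdegL] at this
      omega
  -- back to forms
  set eO := optionEquivLeft K (Fin n)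
  have hG : (eO.symm P).IsHomogeneous (Fintype.card (Fin n) * 1) := by
    have : eO.symm P = ((eO.symm : Polynomial S →ₐ[K] _).toRingHom.mapMatrix
        (Matrix.charmatrix M)).det := by
      rw [← RingHom.map_det]; rfl
    rw [this]
    refine det_isHomogeneous _ 1 fun i j => ?_
    rw [RingHom.mapMatrix_apply, Matrix.map_apply, Matrix.charmatrix_apply]
    simp only [AlgHom.toRingHom_eq_coe, RingHom.coe_coe, AlgEquiv.coe_toAlgHom, map_sub]
    refine IsHomogeneous.sub ?_ ?_
    · rw [Matrix.diagonal_apply]
      split
      · rw [optionEquivLeft_symm_X]; exact isHomogeneous_X _ _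
      · rw [map_zero]; exact isHomogeneous_zero _ _ _
    · simp only [M, genMat, Matrix.of_apply, map_sum, map_mul]
      refine IsHomogeneous.sum _ _ _ fun l _ => ?_
      rw [optionEquivLeft_symm_C_C, optionEquivLeft_symm_C_X]
      exact isHomogeneous_C_mul_X _ _
  obtain ⟨m, hm⟩ := isHomogeneous_of_dvd hG (by simpa using hPm.ne_zero) (map_dvd eO.symm hqdvd)
  have hmeq : q.natDegree = m := by
    have hcoef := optionEquivLeft_coeff_some_coeff_none (R := K) (S₁ := Fin n)
      (Finsupp.single none q.natDegree) (eO.symm q)
    rw [AlgEquiv.apply_symm_apply, Finsupp.single_eq_same, Finsupp.some_single_none,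
      hqm.coeff_natDegree, coeff_zero_one] at hcoef
    have := hm (d := Finsupp.single none q.natDegree) (by rw [← hcoef]; exact one_ne_zero)
    simpa [Finsupp.weight_apply] using this
  subst hmeq
  set F : MvPolynomial (Fin n) K := aeval (fun o : Option (Fin n) => Option.elim o 0 X) (eO.symm q)
  have hF : F.IsHomogeneous q.natDegree := by
    have hX : ∀ o : Option (Fin n), (Option.elim o 0 X : MvPolynomial (Fin n) K).IsHomogeneous 1 := by
      intro o
      cases o with
      | none => exact isHomogeneous_zero _ _ _
      | some j => exact isHomogeneous_X _ _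
    have h := hm.aeval (fun o : Option (Fin n) => (Option.elim o 0 X : MvPolynomial (Fin n) K)) hX
    rw [one_mul] at h
    exact h
  have hFeq : ∀ v, eval v F = eval v (q.coeff 0) := by
    intro v
    have : F = q.coeff 0 := by
      change (aeval (fun o : Option (Fin n) => Option.elim o 0 X) : _ →ₐ[K] S) (eO.symm q) = _
      conv_rhs => rw [← AlgEquiv.apply_symm_apply eO q]
      generalize eO.symm q = p
      induction p using MvPolynomial.induction_on with
      | C a => simp [eO, S]
      | add p q hp hq => simp [hp, hq]
      | mul_X p o hp => cases o <;> simp [hp, eO, Polynomial.mul_coeff_zero]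
    rw [this]
  obtain ⟨a, ha, hz⟩ := hK n q.natDegree F hF hq1 (by simpa using hq2)
  rw [hFeq] at hz
  obtain ⟨r, hr⟩ := hqdvd
  have hP0 : eval a (P.coeff 0) = 0 := by
    rw [hr, Polynomial.mul_coeff_zero, map_mul, hz, zero_mul]
  refine genMat_det_eval_ne_zero b ha ?_
  rw [Matrix.det_eq_sign_charpoly_coeff, map_mul, hP0, mul_zero]

end Groth.Agent.CiFields
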