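import Groth.Agent.CiFields.AlgExt

/-!
# `K` is `C_i` implies `K(T)` is `C_{i+1}`
-/

universe u v

open MvPolynomial

namespace Groth.Agent.CiFields

/-- Degree bound for the value of a form with polynomial coefficients at polynomials. -/
theorem natDegree_eval_le {K : Type u} [CommRing K] {n : ℕ} (g : MvPolynomial (Fin n) (Polynomial K))
    {d e s : ℕ} (hg : g.IsHomogeneous d) (he : ∀ m ∈ g.support, (g.coeff m).natDegree ≤ e)
    (x : Fin n → Polynomial K) (hx : ∀ j, (x j).natDegree ≤ s) :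
    (eval x g).natDegree ≤ e + d * s := by
  classical
  rw [eval_eq]
  refine Polynomial.natDegree_sum_le_of_forall_le _ _ fun m hm => ?_
  refine Polynomial.natDegree_mul_le.trans (add_le_add (he m hm) ?_)
  refine (Polynomial.natDegree_prod_le _ _).trans ?_
  rw [hg.degree_eq_sum_deg_support hm, Finset.sum_mul]
  exact Finset.sum_le_sum fun j _ =>
    Polynomial.natDegree_pow_le.trans (Nat.mul_le_mul_left _ (hx j))

theorem isCi_polynomial {K : Type u} [Field K] {i : ℕ} (hK : Curves.IsCi K i) {r n : ℕ}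
    (g : Fin r → MvPolynomial (Fin n) (Polynomial K)) (d : Fin r → ℕ)
    (hg : ∀ ρ, (g ρ).IsHomogeneous (d ρ)) (hd : ∀ ρ, 0 < d ρ) (hsum : ∑ ρ, d ρ ^ (i + 1) < n) :
    ∃ x : Fin n → Polynomial K, x ≠ 0 ∧ ∀ ρ, eval x (g ρ) = 0 := by
  classical
  let e : ℕ := Finset.univ.sup fun ρ => (g ρ).support.sup fun m => ((g ρ).coeff m).natDegree
  have he : ∀ ρ, ∀ m ∈ (g ρ).support, ((g ρ).coeff m).natDegree ≤ e := fun ρ m hm =>
    le_trans (Finset.le_sup (f := fun m => ((g ρ).coeff m).natDegree) hm)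
      (Finset.le_sup (f := fun ρ => (g ρ).support.sup fun m => ((g ρ).coeff m).natDegree)
        (Finset.mem_univ ρ))
  let s : ℕ := ∑ ρ, (e + 1) * d ρ ^ i
  obtain ⟨a, ha, hz⟩ := isCi_exists hK
    (σ := Fin n × Fin (s + 1)) (ι := Σ ρ : Fin r, Fin (e + d ρ * s + 1))
    (fun p => mapCoeff (Polynomial.lcoeff K p.2)
      (expand' (fun l : Fin (s + 1) => (Polynomial.X : Polynomial K) ^ (l : ℕ)) (g p.1)))
    (fun p => d p.1) (fun p => mapCoeff_isHomogeneous _ (expand'_isHomogeneous _ (hg p.1)))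
    (fun p => hd p.1) (by
      rw [Fintype.sum_sigma]
      simp only [Finset.sum_const, Finset.card_univ, Fintype.card_fin, smul_eq_mul,
        Fintype.card_prod]
      have h1 : ∑ ρ, (e + d ρ * s + 1) * d ρ ^ i = (∑ ρ, d ρ ^ (i + 1)) * s + s := by
        rw [Finset.sum_mul, ← Finset.sum_add_distrib]
        refine Finset.sum_congr rfl fun ρ _ => ?_
        ring
      rw [h1]
      calc (∑ ρ, d ρ ^ (i + 1)) * s + s = ((∑ ρ, d ρ ^ (i + 1)) + 1) * s := by ring
        _ ≤ n * s := Nat.mul_le_mul_right _ hsum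
        _ < n * (s + 1) := Nat.mul_lt_mul_of_pos_left (Nat.lt_succ_self _) (by omega))
  let x : Fin n → Polynomial K := fun j => ∑ l, Polynomial.C (a (j, l)) * Polynomial.X ^ (l : ℕ)
  have hcoeff : ∀ j (l : Fin (s + 1)), (x j).coeff l = a (j, l) := by
    intro j l
    simp [x, Polynomial.finsetSum_coeff, Fin.val_inj]
  have hdeg : ∀ j, (x j).natDegree ≤ s := fun j =>
    Polynomial.natDegree_sum_le_of_forall_le _ _ fun l _ =>
      (Polynomial.natDegree_C_mul_X_pow_le _ _).trans (Nat.le_of_lt_succ l.isLt)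
  refine ⟨x, fun h => ha (funext fun ⟨j, l⟩ => ?_), fun ρ => Polynomial.ext fun m => ?_⟩
  · rw [← hcoeff j l, h]; simp
  · by_cases hm : m < e + d ρ * s + 1
    · have := hz ⟨ρ, ⟨m, hm⟩⟩
      rw [eval_mapCoeff, eval_expand'] at this
      simpa [x] using this
    · rw [Polynomial.coeff_zero]
      exact Polynomial.coeff_eq_zero_of_natDegree_lt
        (lt_of_le_of_lt (natDegree_eval_le (g ρ) (hg ρ) (he ρ) x hdeg) (by omega))

theorem isCi_ratFunc {K : Type u} [Field K] {i : ℕ} (hK : Curves.IsCi K i) :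
    Curves.IsCi (RatFunc K) (i + 1) := by
  classical
  intro r n f d hf hd hsum
  have key : ∀ ρ, ∃ (q : nonZeroDivisors (Polynomial K)) (g : MvPolynomial (Fin n) (Polynomial K)),
      MvPolynomial.map (algebraMap (Polynomial K) (RatFunc K)) g =
        C (algebraMap (Polynomial K) (RatFunc K) q) * f ρ := by
    intro ρ
    obtain ⟨q, hq⟩ := IsLocalization.exist_integer_multiples_of_finset
      (M := nonZeroDivisors (Polynomial K)) (f ρ).coeffs
    refine ⟨q, mem_range_map_iff_coeffs_subset.2 ?_⟩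
    intro x hx
    obtain ⟨m, hm, rfl⟩ := mem_coeffs_iff.1 hx
    rw [coeff_C_mul]
    have hne : (f ρ).coeff m ≠ 0 := by
      have := mem_support_iff.1 hm
      rw [coeff_C_mul] at this
      exact fun h => this (by simp [h])
    obtain ⟨y, hy⟩ := hq _ (mem_coeffs_iff.2 ⟨m, mem_support_iff.2 hne, rfl⟩)
    exact ⟨y, by rw [hy, Algebra.smul_def]⟩
  choose q g hg using key
  have hinj : Function.Injective (algebraMap (Polynomial K) (RatFunc K)) :=
    IsFractionRing.injective _ _
  obtain ⟨x, hx, hz⟩ := isCi_polynomial hK g d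
    (fun ρ => IsHomogeneous.of_map hinj (by rw [hg]; exact (hf ρ).C_mul _)) hd hsum
  refine ⟨fun j => algebraMap _ _ (x j), fun h => hx (funext fun j => hinj ?_), fun ρ => ?_⟩
  · simpa using congrFun h j
  · have hne : algebraMap (Polynomial K) (RatFunc K) (q ρ) ≠ 0 := fun h =>
      nonZeroDivisors.ne_zero (q ρ).2 (hinj (by rw [h, map_zero]))
    refine (mul_eq_zero.1 ?_).resolve_left hne
    have := congrArg (algebraMap (Polynomial K) (RatFunc K)) (hz ρ)
    rw [map_zero] at this
    rw [show algebraMap (Polynomial K) (RatFunc K) (q ρ) *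
      eval (fun j => algebraMap _ _ (x j)) (f ρ) =
      eval (fun j => algebraMap _ _ (x j)) (C (algebraMap _ _ (q ρ : Polynomial K)) * f ρ) by simp,
      ← hg ρ, eval_map, ← this]
    exact (eval₂_comp _ _ _).symm

end Groth.Agent.CiFields
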