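import Groth.Agent.CiFields.Basic

/-!
# Restriction of scalars for forms
-/

universe u v

open MvPolynomial

namespace Groth.Agent.CiFields

section

variable {R A σ : Type*} [CommRing R] [CommRing A] [Algebra R A]

/-- Apply an `R`-linear map to the coefficients of a polynomial. -/
noncomputable def mapCoeff (φ : A →ₗ[R] R) (p : MvPolynomial σ A) : MvPolynomial σ R :=
  ∑ s ∈ p.support, monomial s (φ (p.coeff s))

theorem mapCoeff_isHomogeneous (φ : A →ₗ[R] R) {p : MvPolynomial σ A} {d : ℕ}
    (hp : p.IsHomogeneous d) : (mapCoeff φ p).IsHomogeneous d :=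
  IsHomogeneous.sum _ _ _ fun _ hs => isHomogeneous_monomial _ (by
    rw [Finsupp.degree_apply]; exact (hp.degree_eq_sum_deg_support hs).symm)

theorem eval_mapCoeff (φ : A →ₗ[R] R) (p : MvPolynomial σ A) (y : σ → R) :
    eval y (mapCoeff φ p) = φ (eval (fun i => algebraMap R A (y i)) p) := by
  rw [mapCoeff, map_sum, eval_eq, map_sum]
  refine Finset.sum_congr rfl fun s _ => ?_
  rw [eval_monomial, Finsupp.prod]
  simp only [← map_pow, ← map_prod]
  rw [mul_comm (p.coeff s), ← Algebra.smul_def, map_smul, smul_eq_mul, mul_comm]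

variable {κ : Type*} [Fintype κ]

/-- Substitute `x i = ∑ l, y (i, l) * b l`. -/
noncomputable def expand' (b : κ → A) (f : MvPolynomial σ A) : MvPolynomial (σ × κ) A :=
  aeval (fun i => ∑ l, C (b l) * X (i, l)) f

theorem expand'_isHomogeneous (b : κ → A) {f : MvPolynomial σ A} {d : ℕ}
    (hf : f.IsHomogeneous d) : (expand' b f).IsHomogeneous d := by
  simpa [expand'] using hf.aeval (fun i => ∑ l, C (b l) * X (i, l))
    (fun i => IsHomogeneous.sum _ _ _ fun l _ => isHomogeneous_C_mul_X _ _)

theorem eval_expand' (b : κ → A) (f : MvPolynomial σ A) (y : σ × κ → A) :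
    eval y (expand' b f) = eval (fun i => ∑ l, y (i, l) * b l) f := by
  induction f using MvPolynomial.induction_on with
  | C a => simp [expand']
  | add p q hp hq => simp only [expand', map_add] at hp hq ⊢; rw [hp, hq]
  | mul_X p i hp =>
    simp only [expand', map_mul, aeval_X, eval_X] at hp ⊢
    rw [hp, map_sum]
    simp [mul_comm]

end

theorem det_isHomogeneous {R σ ι : Type*} [CommRing R] [Fintype ι] [DecidableEq ι]
    (M : Matrix ι ι (MvPolynomial σ R)) (d : ℕ) (hM : ∀ i j, (M i j).IsHomogeneous d) :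
    M.det.IsHomogeneous (Fintype.card ι * d) := by
  rw [Matrix.det_apply']
  refine IsHomogeneous.sum _ _ _ fun s _ => ?_
  have h : (∏ i, M (s i) i).IsHomogeneous (Fintype.card ι * d) := by
    simpa using IsHomogeneous.prod Finset.univ (fun i => M (s i) i) (fun _ => d)
      (fun i _ => hM _ _)
  have := h.C_mul ((Equiv.Perm.sign s : ℤ) : R)
  simpa using this

end Groth.Agent.CiFields
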