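import Groth.Agent.CiFields.AlgClosed
import Groth.Agent.CiFields.RatFunc

/-!
# The theorem of Tsen and Lang
-/

universe u v

namespace Groth.Agent.CiFields

theorem isCi_adjoin_finite {k : Type u} [Field k] [IsAlgClosed k] {K : Type v} [Field K] [Algebra k K]
    {j : ℕ} (x : Fin j → K) (hx : AlgebraicIndependent k x) :
    ∀ m ≤ j, Curves.IsCi (IntermediateField.adjoin k (x '' {l | (l : ℕ) < m})) m
  | 0, _ => by
    have h : IntermediateField.adjoin k (x '' {l | (l : ℕ) < 0}) = ⊥ := by simp
    exact isCi_of_ringEquiv (K := k)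
      (((IntermediateField.equivOfEq h).trans (IntermediateField.botEquiv k K)).symm.toRingEquiv)
      (isCi_zero k)
  | m + 1, h => by
    set s := x '' {l : Fin j | (l : ℕ) < m}
    set F := IntermediateField.adjoin k s
    let i : Fin j := ⟨m, h⟩
    have ht : Transcendental F (x i) :=
      IntermediateField.transcendental_adjoin_iff.2
        (hx.transcendental_adjoin (show i ∉ {l : Fin j | (l : ℕ) < m} by simp [i]))
    have he : (IntermediateField.adjoin F ({x i} : Set K)).restrictScalars k =
        IntermediateField.adjoin k (x '' {l | (l : ℕ) < m + 1}) := by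
      rw [IntermediateField.adjoin_adjoin_left]
      congr 1
      rw [← Set.image_singleton, ← Set.image_union]
      congr 1
      ext l
      simp only [Set.mem_union, Set.mem_ofPred_eq, Set.mem_singleton_iff, Fin.ext_iff, i]
      omega
    have e₁ : RatFunc F ≃+* ((IntermediateField.adjoin F ({x i} : Set K)).restrictScalars k) :=
      (RatFunc.algEquivOfTranscendental (x i) ht).toRingEquiv
    exact isCi_of_ringEquiv (e₁.trans (IntermediateField.equivOfEq he).toRingEquiv)
      (isCi_ratFunc (isCi_adjoin_finite x hx m (by omega)))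

theorem tsen_lang {k : Type u} [Field k] [IsAlgClosed k] {K : Type v} [Field K] [Algebra k K]
    (j : ℕ) (hj : Algebra.trdeg k K = j) : Curves.IsCi K j := by
  obtain ⟨ι, x, hx⟩ := exists_isTranscendenceBasis' k K
  have hc : Cardinal.mk ι = j := by rw [hx.cardinalMk_eq_trdeg, hj]
  have hfin : Finite ι := Cardinal.lt_aleph0_iff_finite.1 (by rw [hc]; exact Cardinal.natCast_lt_aleph0)
  have hnat : Nat.card ι = j := by simp [Nat.card, hc]
  let e : Fin j ≃ ι := (Finite.equivFinOfCardEq hnat).symm
  have hx' : IsTranscendenceBasis k (x ∘ e) := hx.comp_equiv e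
  have := isCi_adjoin_finite (x ∘ e) hx'.1 j le_rfl
  rw [show {l : Fin j | (l : ℕ) < j} = Set.univ by ext y; simp, Set.image_univ] at this
  have := hx'.isAlgebraic_field
  exact isCi_of_isAlgebraic (K := IntermediateField.adjoin k (Set.range (x ∘ e))) (by assumption)

end Groth.Agent.CiFields
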